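import Groth.Agent.Approx60.ImmStage
import Groth.Agent.Approx60.FlatDesc
import Groth.Agent.Lim60.Props
import Mathlib.AlgebraicGeometry.Morphisms.UniversallyOpen

/-! Descent of finite open coverings (étale, fppf) along cofiltered limits. -/

set_option autoImplicit false

universe u

open CategoryTheory CategoryTheory.Limits AlgebraicGeometry TopologicalSpace

namespace Groth.Agent.DescCov24

variable {I : Type u} [SmallCategory I] [IsCofiltered I] (D : I ⥤ Scheme.{u}) (c : Cone D)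

theorem exists_bc {i k : I} (φ : k ⟶ i) {U V : Scheme.{u}} (v : V ⟶ D.obj i) (u : U ⟶ c.pt)
    (e : U ⟶ V) (h : IsPullback e u v (c.π.app i)) :
    ∃ e' : U ⟶ pullback v (D.map φ), IsPullback e' u (pullback.snd v (D.map φ)) (c.π.app k) := by
  refine ⟨pullback.lift e (u ≫ c.π.app k) (by rw [Category.assoc, c.w, h.w]), ?_⟩
  refine IsPullback.of_right ?_ (pullback.lift_snd _ _ _) (IsPullback.of_hasPullback v (D.map φ))
  rw [pullback.lift_fst, c.w]
  exact h

theorem descend_open_cover (P : MorphismProperty Scheme.{u}) [P.IsStableUnderBaseChange]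
    (hc : IsLimit c) [∀ (i j : I) (t : i ⟶ j), IsAffineHom (D.map t)] [∀ i, CompactSpace (D.obj i)]
    [∀ i, QuasiSeparatedSpace (D.obj i)]
    (hopen : ∀ {X Y : Scheme.{u}} (f : X ⟶ Y), P f → IsOpenMap f.base)
    (hlfp : ∀ {X Y : Scheme.{u}} (f : X ⟶ Y), P f → LocallyOfFinitePresentation f)
    (hdesc : ∀ (i : I) {X₀ X : Scheme.{u}} (f₀ : X₀ ⟶ D.obj i) [LocallyOfFinitePresentation f₀]
      [QuasiCompact f₀] [QuasiSeparated f₀] (q : X ⟶ X₀) (f : X ⟶ c.pt),
      IsPullback q f f₀ (c.π.app i) → P f →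
        ∃ (k : I) (φ : k ⟶ i), P (pullback.snd f₀ (D.map φ)))
    {ι : Type u} (U : ι → Scheme.{u}) (u : ∀ a, U a ⟶ c.pt) (hu : ∀ a, P (u a))
    [∀ a, QuasiCompact (u a)] [∀ a, QuasiSeparated (u a)]
    (hcov : ∀ x : c.pt, ∃ (a : ι) (y : U a), (u a).base y = x) :
    ∃ (i : I) (n : ℕ) (V : Fin n → Scheme.{u}) (v : ∀ j, V j ⟶ D.obj i) (a : Fin n → ι)
      (e : ∀ j, U (a j) ⟶ V j),
      (∀ j, P (v j) ∧ QuasiCompact (v j) ∧ QuasiSeparated (v j)) ∧
      (∀ x : D.obj i, ∃ (j : Fin n) (y : V j), (v j).base y = x) ∧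
      ∀ j, IsPullback (e j) (u (a j)) (v j) (c.π.app i) := by
  classical
  haveI : ∀ {i j : I} (t : i ⟶ j), IsAffineHom (D.map t) := fun t => inferInstance
  haveI : CompactSpace c.pt := Scheme.compactSpace_of_isLimit D c hc
  haveI := fun a => hlfp (u a) (hu a)
  obtain ⟨s, hs⟩ := isCompact_univ.elim_finite_subcover (fun a => Set.range (u a).base)
    (fun a => (hopen (u a) (hu a)).isOpen_range) (fun x _ => by
      obtain ⟨a, y, hy⟩ := hcov x; exact Set.mem_iUnion.mpr ⟨a, y, hy⟩)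
  have hA : ∀ a : s, ∃ (k : I) (V : Scheme.{u}) (v : V ⟶ D.obj k) (e : U a.1 ⟶ V),
      (P v ∧ QuasiCompact v ∧ QuasiSeparated v) ∧ IsPullback e (u a.1) v (c.π.app k) := by
    intro a
    obtain ⟨i, X₀, f₀, g, h₁, h₂, h₃, hp⟩ := Approx60.S0591 D c hc (U a.1) (u a.1)
    obtain ⟨k, φ, hk⟩ := hdesc i f₀ g (u a.1) hp (hu a.1)
    obtain ⟨e, he⟩ := exists_bc D c φ f₀ (u a.1) g hp
    exact ⟨k, _, _, e, ⟨hk, inferInstance, inferInstance⟩, he⟩
  choose iA VA vA eA hvA heA using hA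
  haveI : Nonempty I := IsCofiltered.nonempty
  obtain ⟨j, fj⟩ := IsCofiltered.inf_objs_exists (Finset.univ.image iA)
  let ψ : ∀ a, j ⟶ iA a := fun a =>
    (fj (Finset.mem_image_of_mem iA (Finset.mem_univ a))).some
  choose eB heB using fun a => exists_bc D c (ψ a) (vA a) (u a.1) (eA a) (heA a)
  let vB := fun a => pullback.snd (vA a) (D.map (ψ a))
  have hPB : ∀ a, P (vB a) := fun a => P.pullback_snd _ _ (hvA a).1
  let W : (D.obj j).Opens := ⨆ a, ⟨Set.range (vB a).base, (hopen _ (hPB a)).isOpen_range⟩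
  obtain ⟨k, h, hk⟩ := exists_map_eq_top D c hc (i := j) W (by
    refine top_unique fun x _ => ?_
    obtain ⟨a, ha, y, rfl⟩ := Set.mem_iUnion₂.mp (hs (Set.mem_univ x))
    refine Opens.mem_iSup.mpr ⟨⟨a, ha⟩, eB ⟨a, ha⟩ y, ?_⟩
    rw [← Scheme.Hom.comp_apply, ← Scheme.Hom.comp_apply, (heB ⟨a, ha⟩).w])
  let σ := s.equivFin
  choose eC heC using fun b => exists_bc D c h (vB (σ.symm b)) (u (σ.symm b).1) (eB _) (heB _)
  refine ⟨k, s.card, _, fun b => pullback.snd (vB (σ.symm b)) (D.map h), _, eC,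
    fun b => ⟨P.pullback_snd _ _ (hPB _), ?_, ?_⟩, fun x => ?_, heC⟩
  · have := (hvA (σ.symm b)).2.1
    infer_instance
  · have := (hvA (σ.symm b)).2.2
    infer_instance
  · obtain ⟨a, ha⟩ := Opens.mem_iSup.mp (hk.ge (Set.mem_univ (α := D.obj k) x))
    refine ⟨σ a, ?_⟩
    rw [← Set.mem_range, Scheme.Pullback.range_snd]
    show (D.map h).base x ∈ Set.range (vB (σ.symm (σ a))).base
    rw [σ.symm_apply_apply]
    exact ha

theorem descend_open_cover' (P : MorphismProperty Scheme.{u}) [P.IsStableUnderBaseChange]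
    (hc : IsLimit c) [∀ (i j : I) (t : i ⟶ j), IsAffineHom (D.map t)] (i₀ : I)
    [CompactSpace (D.obj i₀)] [QuasiSeparatedSpace (D.obj i₀)]
    (hopen : ∀ {X Y : Scheme.{u}} (f : X ⟶ Y), P f → IsOpenMap f.base)
    (hlfp : ∀ {X Y : Scheme.{u}} (f : X ⟶ Y), P f → LocallyOfFinitePresentation f)
    (hdesc : ∀ (i : I) [CompactSpace (D.obj i)] [QuasiSeparatedSpace (D.obj i)]
      {X₀ X : Scheme.{u}} (f₀ : X₀ ⟶ D.obj i) [LocallyOfFinitePresentation f₀]
      [CompactSpace X₀] [QuasiSeparatedSpace X₀] (q : X ⟶ X₀) (f : X ⟶ c.pt),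
      IsPullback q f f₀ (c.π.app i) → P f →
        ∃ (k : I) (φ : k ⟶ i) (Xi Yi : Scheme.{u}) (fi : Xi ⟶ Yi) (gi : Yi ⟶ D.obj k)
          (pY : Yi ⟶ D.obj i) (pX : Xi ⟶ X₀), IsPullback pY gi (𝟙 _) (D.map φ) ∧
          IsPullback pX fi f₀ pY ∧ P fi)
    {ι : Type u} (U : ι → Scheme.{u}) (u : ∀ a, U a ⟶ c.pt) (hu : ∀ a, P (u a))
    [∀ a, QuasiCompact (u a)] [∀ a, QuasiSeparated (u a)]
    (hcov : ∀ x : c.pt, ∃ (a : ι) (y : U a), (u a).base y = x) :
    ∃ (i : I) (n : ℕ) (V : Fin n → Scheme.{u}) (v : ∀ j, V j ⟶ D.obj i) (a : Fin n → ι)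
      (e : ∀ j, U (a j) ⟶ V j),
      (∀ j, P (v j) ∧ QuasiCompact (v j) ∧ QuasiSeparated (v j)) ∧
      (∀ x : D.obj i, ∃ (j : Fin n) (y : V j), (v j).base y = x) ∧
      ∀ j, IsPullback (e j) (u (a j)) (v j) (c.π.app i) := by
  let D' := Over.forget i₀ ⋙ D
  let c' : Cone D' := c.whisker (Over.forget i₀)
  let hc' : IsLimit c' := (Functor.Initial.isLimitWhiskerEquiv (Over.forget i₀) c).symm hc
  haveI : ∀ (i j : Over i₀) (t : i ⟶ j), IsAffineHom (D'.map t) := fun i j t => by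
    dsimp [D']; infer_instance
  haveI : ∀ j : Over i₀, CompactSpace (D'.obj j) := fun j =>
    QuasiCompact.compactSpace_of_compactSpace (D.map j.hom)
  haveI : ∀ j : Over i₀, QuasiSeparatedSpace (D'.obj j) := fun j =>
    quasiSeparatedSpace_of_quasiSeparated (D.map j.hom)
  obtain ⟨i, n, V, v, a, e, h₁, h₂, h₃⟩ := descend_open_cover D' c' P hc' hopen hlfp
    (fun i {X₀ X} f₀ _ _ _ q f hp hf => by
      haveI : LocallyOfFinitePresentation (Y := D.obj i.left) f₀ := ‹_›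
      haveI : QuasiCompact (Y := D.obj i.left) f₀ := ‹_›
      haveI : QuasiSeparated (Y := D.obj i.left) f₀ := ‹_›
      haveI : CompactSpace (D.obj i.left) := inferInstanceAs (CompactSpace (D'.obj i))
      haveI : QuasiSeparatedSpace (D.obj i.left) := inferInstanceAs (QuasiSeparatedSpace (D'.obj i))
      haveI : CompactSpace X₀ := QuasiCompact.compactSpace_of_compactSpace f₀
      haveI : QuasiSeparatedSpace X₀ := quasiSeparatedSpace_of_quasiSeparated f₀
      obtain ⟨k, φ, Xi, Yi, fi, gi, pY, pX, hY, hX, hP⟩ := hdesc i.left f₀ q f hp hf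
      refine ⟨Over.mk (φ ≫ i.hom), Over.homMk φ, ?_⟩
      haveI : IsIso gi := hY.flip.isIso_fst_of_isIso
      have h := hX.paste_vert hY
      rw [Category.comp_id] at h
      have key : ∀ (f₁ : X₀ ⟶ D.obj i.left), IsPullback pX (fi ≫ gi) f₁ (D.map φ) →
          P (pullback.snd f₁ (D.map φ)) := fun f₁ h => by
        rw [← h.isoPullback_inv_snd, P.cancel_left_of_respectsIso, P.cancel_right_of_respectsIso]
        exact hP
      exact key f₀ h) U u hu hcov
  exact ⟨i.left, n, V, v, a, e, h₁, h₂, h₃⟩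

end Groth.Agent.DescCov24
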